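import Cfsg.Agent.Lib.StructC.PolySeq
import Mathlib.Algebra.Lie.Basic
import Mathlib.Algebra.DirectSum.Basic
import Mathlib.GroupTheory.QuotientGroup.Basic

/-!
# The Lie ring of the lower central series
-/

set_option autoImplicit false

namespace CfsgLib.LieFpf

open scoped commutatorElement DirectSum

universe u

variable (G : Type u) [Group G]

/-- The lower central series of the whole group. -/
abbrev gam (i : ℕ) : Subgroup G := (⊤ : Subgroup G).lowerCentralSeries i

theorem gam_normal (i : ℕ) : (gam G i).Normal := StructC.normal_lowerCentralSeries _ i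

variable {G}

theorem commutator_mem_gam {i j : ℕ} {x y : G} (hx : x ∈ gam G i) (hy : y ∈ gam G j) :
    ⁅x, y⁆ ∈ gam G (i + j + 1) :=
  StructC.commutator_lowerCentralSeries_le i j (Subgroup.commutator_mem_commutator hx hy)

theorem gam_mono {i j : ℕ} (h : i ≤ j) : gam G j ≤ gam G i :=
  Subgroup.lowerCentralSeries_antitone _ h

theorem conj_mem_gam {i : ℕ} {x : G} (hx : x ∈ gam G i) (g : G) : g * x * g⁻¹ ∈ gam G i :=
  (gam_normal G i).conj_mem x hx g

theorem quotient_mul_comm {i : ℕ} (x y : gam G i) :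
    ((x * y : gam G i) : gam G i ⧸ (gam G (i + 1)).subgroupOf (gam G i))
      = ((y * x : gam G i) : gam G i ⧸ (gam G (i + 1)).subgroupOf (gam G i)) := by
  refine QuotientGroup.eq.2 ?_
  have h := gam_mono (show i + 1 ≤ i + i + 1 by omega)
    (commutator_mem_gam (inv_mem y.2) (inv_mem x.2))
  rw [Subgroup.mem_subgroupOf]
  convert h using 1
  push_cast [commutatorElement_def]
  group

instance (i : ℕ) : ((gam G (i + 1)).subgroupOf (gam G i)).Normal :=
  have := gam_normal G (i + 1)
  inferInstance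

variable (G)

/-- A factor of the lower central series. -/
def Layer (i : ℕ) : Type u := gam G i ⧸ (gam G (i + 1)).subgroupOf (gam G i)

instance (i : ℕ) : CommGroup (Layer G i) :=
  { (QuotientGroup.Quotient.group _ :
      Group (gam G i ⧸ (gam G (i + 1)).subgroupOf (gam G i))) with
    mul_comm := fun a b => QuotientGroup.induction_on a fun x => QuotientGroup.induction_on b fun y =>
      quotient_mul_comm x y }

variable {G}

/-- The class of an element of `gam G i`. -/
def layerMk (i : ℕ) : gam G i →* Layer G i := QuotientGroup.mk' _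

theorem layerMk_surjective (i : ℕ) : Function.Surjective (layerMk (G := G) i) :=
  QuotientGroup.mk'_surjective _

theorem layerMk_eq_one {i : ℕ} {x : gam G i} : layerMk i x = 1 ↔ (x : G) ∈ gam G (i + 1) :=
  QuotientGroup.eq_one_iff x

theorem layerMk_eq {i : ℕ} {x y : gam G i} : layerMk i x = layerMk i y ↔ (x : G)⁻¹ * y ∈ gam G (i + 1) := by
  rw [← layerMk_eq_one (x := (⟨(x : G)⁻¹ * y, mul_mem (inv_mem x.2) y.2⟩ : gam G i)),
    show (⟨(x : G)⁻¹ * y, mul_mem (inv_mem x.2) y.2⟩ : gam G i) = x⁻¹ * y from rfl, map_mul, map_inv,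
    inv_mul_eq_one]

theorem commutator_mul_right_eq (x y z : G) :
    ⁅x, y * z⁆ = ⁅x, y⁆ * (⁅y, ⁅x, z⁆⁆ * ⁅x, z⁆) := by
  simp only [commutatorElement_def]; group

theorem commutator_mul_left_eq (x y z : G) :
    ⁅x * y, z⁆ = (⁅x, ⁅y, z⁆⁆ * ⁅y, z⁆) * ⁅x, z⁆ := by
  simp only [commutatorElement_def]; group

/-- The commutator with a fixed element, into the layer. -/
def brkAux (i j : ℕ) (x : gam G i) : gam G j →* Layer G (i + j + 1) :=
  MonoidHom.mk' (fun y => layerMk _ ⟨⁅(x : G), (y : G)⁆, commutator_mem_gam x.2 y.2⟩) fun y z => by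
    have hc : ⁅(y : G), ⁅(x : G), (z : G)⁆⁆ ∈ gam G (i + j + 1 + 1) :=
      gam_mono (by omega) (commutator_mem_gam y.2 (commutator_mem_gam x.2 z.2))
    have hc' := layerMk_eq_one.2 (show ((⟨_, gam_mono (Nat.le_succ _) hc⟩ : gam G (i + j + 1)) : G) ∈
      gam G (i + j + 1 + 1) from hc)
    rw [← map_mul]
    have e : (⟨⁅(x : G), ((y * z : gam G j) : G)⁆, commutator_mem_gam x.2 (y * z).2⟩ : gam G (i + j + 1))
        = ⟨_, commutator_mem_gam x.2 y.2⟩ * (⟨_, gam_mono (Nat.le_succ _) hc⟩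
          * ⟨_, commutator_mem_gam x.2 z.2⟩) := Subtype.ext (commutator_mul_right_eq _ _ _)
    rw [e, map_mul, map_mul, map_mul, hc', one_mul]

theorem brkAux_apply (i j : ℕ) (x : gam G i) (y : gam G j) :
    brkAux i j x y = layerMk _ ⟨⁅(x : G), (y : G)⁆, commutator_mem_gam x.2 y.2⟩ := rfl

/-- The commutator with a fixed element, on the layer. -/
def brkRight (i j : ℕ) : gam G i →* (Layer G j →* Layer G (i + j + 1)) :=
  MonoidHom.mk' (fun x => QuotientGroup.lift _ (brkAux i j x) fun y hy => layerMk_eq_one.2 (by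
    exact gam_mono (by omega) (commutator_mem_gam x.2 (Subgroup.mem_subgroupOf.1 hy))))
    fun x x' => MonoidHom.ext fun a => by
      obtain ⟨y, rfl⟩ := layerMk_surjective j a
      show brkAux i j (x * x') y = brkAux i j x y * brkAux i j x' y
      have hc : ⁅(x : G), ⁅(x' : G), (y : G)⁆⁆ ∈ gam G (i + j + 1 + 1) :=
        gam_mono (by omega) (commutator_mem_gam x.2 (commutator_mem_gam x'.2 y.2))
      have hc' := layerMk_eq_one.2 (show ((⟨_, gam_mono (Nat.le_succ _) hc⟩ : gam G (i + j + 1)) : G) ∈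
        gam G (i + j + 1 + 1) from hc)
      simp only [brkAux_apply]
      have e : (⟨⁅((x * x' : gam G i) : G), (y : G)⁆, commutator_mem_gam (x * x').2 y.2⟩ : gam G (i + j + 1))
          = (⟨_, gam_mono (Nat.le_succ _) hc⟩ * ⟨_, commutator_mem_gam x'.2 y.2⟩)
            * ⟨_, commutator_mem_gam x.2 y.2⟩ := Subtype.ext (commutator_mul_left_eq _ _ _)
      rw [e, map_mul, map_mul, hc', one_mul, mul_comm]

/-- The bracket of two layers. -/
def brk (i j : ℕ) : Layer G i →* (Layer G j →* Layer G (i + j + 1)) :=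
  QuotientGroup.lift _ (brkRight i j) fun x hx => MonoidHom.mem_ker.2 (MonoidHom.ext fun a => by
    obtain ⟨y, rfl⟩ := layerMk_surjective j a
    show brkAux i j x y = 1
    exact layerMk_eq_one.2
      (gam_mono (by omega) (commutator_mem_gam (Subgroup.mem_subgroupOf.1 hx) y.2)))

variable (G)

/-- The Lie ring of the lower central series. -/
abbrev LieLcs : Type u := ⨁ i, Additive (Layer G i)

variable {G}

/-- A homogeneous element. -/
def iota (i : ℕ) (g : G) (h : g ∈ gam G i) : LieLcs G :=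
  DirectSum.of (fun i => Additive (Layer G i)) i (Additive.ofMul (layerMk i ⟨g, h⟩))

theorem iota_congr {i j : ℕ} {g g' : G} (hij : i = j) (hg : g = g') {h : g ∈ gam G i}
    {h' : g' ∈ gam G j} : iota i g h = iota j g' h' := by subst hij; subst hg; rfl

theorem iota_eq_of_mem {i : ℕ} {g g' : G} {h : g ∈ gam G i} {h' : g' ∈ gam G i}
    (e : g⁻¹ * g' ∈ gam G (i + 1)) : iota i g h = iota i g' h' :=
  congrArg _ (congrArg Additive.ofMul (layerMk_eq.2 e))

theorem iota_mul {i : ℕ} {g g' : G} (h : g ∈ gam G i) (h' : g' ∈ gam G i) :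
    iota i (g * g') (mul_mem h h') = iota i g h + iota i g' h' := by
  rw [iota, iota, iota, ← map_add, ← ofMul_mul, ← map_mul]
  rfl

theorem iota_one (i : ℕ) : iota i (1 : G) (one_mem _) = 0 := by
  rw [iota, show (⟨1, one_mem _⟩ : gam G i) = 1 from rfl, map_one, ofMul_one, map_zero]

theorem iota_inv {i : ℕ} {g : G} (h : g ∈ gam G i) : iota i g⁻¹ (inv_mem h) = -iota i g h := by
  rw [eq_neg_iff_add_eq_zero, ← iota_mul, ← iota_one i]
  exact iota_congr rfl (inv_mul_cancel g)

theorem induction_iota {motive : LieLcs G → Prop} (x : LieLcs G) (zero : motive 0)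
    (iota : ∀ i g (h : g ∈ gam G i), motive (iota i g h))
    (add : ∀ a b, motive a → motive b → motive (a + b)) : motive x := by
  induction x using DirectSum.induction_on with
  | zero => exact zero
  | of i a =>
    obtain ⟨y, hy⟩ := layerMk_surjective i a.toMul
    have := iota i y y.2
    rw [CfsgLib.LieFpf.iota, hy] at this
    exact this
  | add a b ha hb => exact add a b ha hb

/-- The bracket of two homogeneous components. -/
def brkSum (i j : ℕ) : Additive (Layer G i) →+ Additive (Layer G j) →+ LieLcs G :=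
  AddMonoidHom.mk' (fun a => (DirectSum.of (fun i => Additive (Layer G i)) (i + j + 1)).comp
    (MonoidHom.toAdditive (brk i j a.toMul))) fun a b => AddMonoidHom.ext fun c => by
      show DirectSum.of (fun i => Additive (Layer G i)) (i + j + 1) (Additive.ofMul (brk i j (a.toMul * b.toMul) c.toMul)) = _
      rw [map_mul, MonoidHom.mul_apply, ofMul_mul, map_add]
      rfl

/-- The bracket. -/
def lieHom : LieLcs G →+ LieLcs G →+ LieLcs G :=
  DirectSum.toAddMonoid fun i => (DirectSum.toAddMonoid fun j => (brkSum i j).flip).flip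

instance : Bracket (LieLcs G) (LieLcs G) := ⟨fun x y => lieHom x y⟩

theorem lie_iota (i j : ℕ) {x y : G} (hx : x ∈ gam G i) (hy : y ∈ gam G j) :
    ⁅iota i x hx, iota j y hy⁆ = iota (i + j + 1) ⁅x, y⁆ (commutator_mem_gam hx hy) := by
  show lieHom _ _ = _
  rw [iota, iota, lieHom, DirectSum.toAddMonoid_of, AddMonoidHom.flip_apply, DirectSum.toAddMonoid_of,
    AddMonoidHom.flip_apply]
  rfl

theorem add_lie' (x y z : LieLcs G) : ⁅x + y, z⁆ = ⁅x, z⁆ + ⁅y, z⁆ := by
  show lieHom (x + y) z = _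
  rw [map_add]; rfl

theorem lie_add' (x y z : LieLcs G) : ⁅x, y + z⁆ = ⁅x, y⁆ + ⁅x, z⁆ := map_add (lieHom x) y z

theorem zero_lie' (x : LieLcs G) : ⁅(0 : LieLcs G), x⁆ = 0 := by
  show lieHom 0 x = _
  rw [map_zero]; rfl

theorem lie_zero' (x : LieLcs G) : ⁅x, (0 : LieLcs G)⁆ = 0 := map_zero (lieHom x)

theorem neg_lie' (x y : LieLcs G) : ⁅-x, y⁆ = -⁅x, y⁆ := by
  show lieHom (-x) y = _
  rw [map_neg]; rfl

theorem lie_neg' (x y : LieLcs G) : ⁅x, -y⁆ = -⁅x, y⁆ := map_neg (lieHom x) y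

theorem lie_skew' (x y : LieLcs G) : ⁅x, y⁆ + ⁅y, x⁆ = 0 := by
  induction x using induction_iota with
  | zero => rw [zero_lie', lie_zero', add_zero]
  | add a b ha hb => rw [add_lie', lie_add', add_add_add_comm, ha, hb, add_zero]
  | iota i g h =>
    induction y using induction_iota with
    | zero => rw [zero_lie', lie_zero', add_zero]
    | add a b ha hb => rw [add_lie', lie_add', add_add_add_comm, ha, hb, add_zero]
    | iota j g' h' =>
      rw [lie_iota, lie_iota, ← eq_neg_iff_add_eq_zero, ← iota_inv]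
      exact iota_congr (by omega) (commutatorElement_inv g' g).symm

theorem hall_witt (x y z : G) :
    (y⁻¹ * ⁅⁅x⁻¹, y⁆⁻¹, z⁻¹⁆ * y) * (z⁻¹ * ⁅⁅y⁻¹, z⁆⁻¹, x⁻¹⁆ * z)
      * (x⁻¹ * ⁅⁅z⁻¹, x⁆⁻¹, y⁻¹⁆ * x) = 1 := by
  simp only [commutatorElement_def]; group

theorem jacobi' (x y z : LieLcs G) : ⁅⁅x, y⁆, z⁆ + ⁅⁅y, z⁆, x⁆ + ⁅⁅z, x⁆, y⁆ = 0 := by
  induction x using induction_iota with
  | zero => simp only [zero_lie', lie_zero', add_zero]
  | add a b ha hb =>
    simp only [add_lie', lie_add']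
    calc _ = (⁅⁅a, y⁆, z⁆ + ⁅⁅y, z⁆, a⁆ + ⁅⁅z, a⁆, y⁆) + (⁅⁅b, y⁆, z⁆ + ⁅⁅y, z⁆, b⁆ + ⁅⁅z, b⁆, y⁆) := by abel
      _ = 0 := by rw [ha, hb, add_zero]
  | iota i a ha =>
    induction y using induction_iota with
    | zero => simp only [zero_lie', lie_zero', add_zero]
    | add c d hc hd =>
      simp only [add_lie', lie_add']
      calc _ = (⁅⁅iota i a ha, c⁆, z⁆ + ⁅⁅c, z⁆, iota i a ha⁆ + ⁅⁅z, iota i a ha⁆, c⁆)
            + (⁅⁅iota i a ha, d⁆, z⁆ + ⁅⁅d, z⁆, iota i a ha⁆ + ⁅⁅z, iota i a ha⁆, d⁆) := by abel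
        _ = 0 := by rw [hc, hd, add_zero]
    | iota j b hb =>
      induction z using induction_iota with
      | zero => simp only [zero_lie', lie_zero', add_zero]
      | add c d hc hd =>
        simp only [add_lie', lie_add']
        calc _ = (⁅⁅iota i a ha, iota j b hb⁆, c⁆ + ⁅⁅iota j b hb, c⁆, iota i a ha⁆
              + ⁅⁅c, iota i a ha⁆, iota j b hb⁆)
              + (⁅⁅iota i a ha, iota j b hb⁆, d⁆ + ⁅⁅iota j b hb, d⁆, iota i a ha⁆
              + ⁅⁅d, iota i a ha⁆, iota j b hb⁆) := by abel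
          _ = 0 := by rw [hc, hd, add_zero]
      | iota k c hc =>
        have hterm : ∀ {i j k : ℕ} {a b c g : G} (ha : a ∈ gam G i) (hb : b ∈ gam G j) (hc : c ∈ gam G k)
            {l : ℕ} (_ : g ∈ gam G l) {N : ℕ} (hN : N = i + j + 1 + k + 1)
            (hm : g⁻¹ * ⁅⁅a⁻¹, b⁆⁻¹, c⁻¹⁆ * g ∈ gam G N),
            ⁅⁅iota i a ha, iota j b hb⁆, iota k c hc⁆
              = -iota N (g⁻¹ * ⁅⁅a⁻¹, b⁆⁻¹, c⁻¹⁆ * g) hm := by
          intro i j k a b c g ha hb hc l hg N hN hm
          subst hN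
          have h1 := commutator_mem_gam (inv_mem ha) hb
          have h2 := commutator_mem_gam (inv_mem h1) (inv_mem hc)
          rw [iota_eq_of_mem (h' := h2) (by
            have h3 := gam_mono (show i + j + 1 + k + 1 + 1 ≤ l + (i + j + 1 + k + 1) + 1 by omega)
              (commutator_mem_gam (inv_mem hg) (inv_mem h2))
            convert h3 using 1
            simp only [commutatorElement_def]
            group), ← lie_iota _ _ (inv_mem h1) (inv_mem hc), iota_inv h1, iota_inv hc,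
            ← lie_iota _ _ (inv_mem ha) hb, iota_inv ha]
          simp only [neg_lie', lie_neg', neg_neg]
        have m1 : b⁻¹ * ⁅⁅a⁻¹, b⁆⁻¹, c⁻¹⁆ * b ∈ gam G (i + j + 1 + k + 1) := by
          simpa using conj_mem_gam (commutator_mem_gam (inv_mem (commutator_mem_gam (inv_mem ha) hb))
            (inv_mem hc)) b⁻¹
        have m2 : c⁻¹ * ⁅⁅b⁻¹, c⁆⁻¹, a⁻¹⁆ * c ∈ gam G (i + j + 1 + k + 1) := by
          rw [show i + j + 1 + k + 1 = j + k + 1 + i + 1 by omega]
          simpa using conj_mem_gam (commutator_mem_gam (inv_mem (commutator_mem_gam (inv_mem hb) hc))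
            (inv_mem ha)) c⁻¹
        have m3 : a⁻¹ * ⁅⁅c⁻¹, a⁆⁻¹, b⁻¹⁆ * a ∈ gam G (i + j + 1 + k + 1) := by
          rw [show i + j + 1 + k + 1 = k + i + 1 + j + 1 by omega]
          simpa using conj_mem_gam (commutator_mem_gam (inv_mem (commutator_mem_gam (inv_mem hc) ha))
            (inv_mem hb)) a⁻¹
        rw [hterm ha hb hc hb rfl m1, hterm hb hc ha hc (by omega) m2, hterm hc ha hb ha (by omega) m3,
          ← neg_add, ← neg_add, neg_eq_zero, ← iota_mul, ← iota_mul, ← iota_one (i + j + 1 + k + 1)]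
        exact iota_congr rfl (hall_witt a b c)

instance : LieRing (LieLcs G) where
  add_lie := add_lie'
  lie_add := lie_add'
  lie_self x := by
    induction x using induction_iota with
    | zero => exact zero_lie' 0
    | add a b ha hb =>
      rw [add_lie', lie_add', lie_add', ha, hb, zero_add, add_zero, lie_skew']
    | iota i g h =>
      rw [lie_iota, ← iota_one (i + i + 1)]
      exact iota_congr rfl (commutatorElement_self g)
  leibniz_lie x y z := by
    have e1 : ⁅⁅y, z⁆, x⁆ = -⁅x, ⁅y, z⁆⁆ := eq_neg_iff_add_eq_zero.2 (lie_skew' _ _)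
    have e2 : ⁅⁅z, x⁆, y⁆ = ⁅y, ⁅x, z⁆⁆ := by
      rw [eq_neg_iff_add_eq_zero.2 (lie_skew' ⁅z, x⁆ y),
        eq_neg_iff_add_eq_zero.2 (lie_skew' z x), lie_neg', neg_neg]
    have h := jacobi' x y z
    rw [e1, e2] at h
    calc ⁅x, ⁅y, z⁆⁆ = ⁅x, ⁅y, z⁆⁆ + (⁅⁅x, y⁆, z⁆ + -⁅x, ⁅y, z⁆⁆ + ⁅y, ⁅x, z⁆⁆) := by rw [h, add_zero]
      _ = _ := by abel

theorem map_mem_gam (α : G ≃* G) {i : ℕ} {g : G} (h : g ∈ gam G i) : α g ∈ gam G i := by
  have e := Subgroup.map_lowerCentralSeries (⊤ : Subgroup G) α.toMonoidHom i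
  rw [Subgroup.map_top_of_surjective _ α.surjective] at e
  exact e.le (Subgroup.mem_map_of_mem _ h)

/-- The map of the Lie ring induced by an automorphism. -/
def autLie (α : G ≃* G) : LieLcs G →+ LieLcs G :=
  DirectSum.map fun i => MonoidHom.toAdditive
    (QuotientGroup.map _ _ ((α.toMonoidHom.comp (gam G i).subtype).codRestrict (gam G i)
      fun x => map_mem_gam α x.2) fun x hx => (map_mem_gam α (Subgroup.mem_subgroupOf.1 hx) :
        α (x : G) ∈ gam G (i + 1)) : Layer G i →* Layer G i)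

theorem autLie_iota (α : G ≃* G) {i : ℕ} {g : G} (h : g ∈ gam G i) :
    autLie α (iota i g h) = iota i (α g) (map_mem_gam α h) := by
  rw [autLie, iota, DirectSum.map_of]
  rfl

theorem autLie_lie (α : G ≃* G) (x y : LieLcs G) : autLie α ⁅x, y⁆ = ⁅autLie α x, autLie α y⁆ := by
  induction x using induction_iota with
  | zero => simp
  | add a b ha hb => rw [add_lie, map_add, ha, hb, map_add, add_lie]
  | iota i g h =>
    induction y using induction_iota with
    | zero => simp
    | add a b ha hb => rw [lie_add, map_add, ha, hb, map_add, lie_add]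
    | iota j g' h' =>
      rw [lie_iota, autLie_iota, autLie_iota, autLie_iota, lie_iota]
      exact iota_congr rfl (map_commutatorElement α g g')

end CfsgLib.LieFpf
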