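import Cfsg.Agent.Lib.LieFpf.Extend
import Cfsg.Agent.Lib.LieFpf.Assoc
import Cfsg.Agent.Lib.FixedFree.ShultGross
import Cfsg.Agent.Lib.Complement.FpfNilpotent
import Mathlib.RingTheory.AdjoinRoot
import Mathlib.RingTheory.Polynomial.Cyclotomic.Basic

/-!
# The nilpotency class of a group with a fixed-point-free automorphism of prime order
-/

set_option autoImplicit false

namespace CfsgLib.LieFpf

open Polynomial
open scoped commutatorElement

universe u

variable (p : ℕ) [hp : Fact p.Prime]

/-- The ring with a root of unity of order `p`. -/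
abbrev CycRing : Type := AdjoinRoot (cyclotomic p ℤ)

/-- The powers of the root of unity, indexed by residues. -/
noncomputable def rootPow (a : ZMod p) : CycRing p := AdjoinRoot.root (cyclotomic p ℤ) ^ a.val

theorem root_pow_prime : AdjoinRoot.root (cyclotomic p ℤ) ^ p = 1 := by
  have h := congrArg (AdjoinRoot.mk (cyclotomic p ℤ)) (cyclotomic_prime_mul_X_sub_one ℤ p)
  simp only [map_mul, AdjoinRoot.mk_self, zero_mul, map_sub, map_pow, AdjoinRoot.mk_X, map_one] at h
  exact sub_eq_zero.1 h.symm

theorem rootPow_zero : rootPow p 0 = 1 := by rw [rootPow, ZMod.val_zero, pow_zero]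

theorem rootPow_add (a b : ZMod p) : rootPow p (a + b) = rootPow p a * rootPow p b := by
  rw [rootPow, rootPow, rootPow, ← pow_add, ZMod.val_add]
  conv_rhs => rw [← Nat.mod_add_div (a.val + b.val) p, pow_add, pow_mul, root_pow_prime, one_pow, mul_one]

theorem sum_rootPow_mul {c : ZMod p} (hc : c ≠ 0) : ∑ a : ZMod p, rootPow p (a * c) = 0 := by
  classical
  refine (Equiv.sum_comp (Equiv.mulRight₀ c hc) (rootPow p)).trans ?_
  have h : AdjoinRoot.mk (cyclotomic p ℤ) (cyclotomic p ℤ) = 0 := AdjoinRoot.mk_self
  have h2 := congrArg (AdjoinRoot.mk (cyclotomic p ℤ)) (cyclotomic_prime ℤ p)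
  rw [h, map_sum] at h2
  simp only [map_pow, AdjoinRoot.mk_X] at h2
  rw [h2]
  refine Finset.sum_bij (fun a _ => a.val) (fun a _ => Finset.mem_range.2 (ZMod.val_lt a))
    (fun a _ b _ e => ZMod.val_injective p e) (fun i hi => ⟨(i : ZMod p), Finset.mem_univ _,
      ZMod.val_cast_of_lt (Finset.mem_range.1 hi)⟩) fun a _ => rfl

variable {G : Type u} [Group G]

theorem eq_zero_of_autLie_fix [Finite G] (α : G ≃* G) (hfix : ∀ g, α g = g → g = 1) {l : LieLcs G}
    (hl : autLie α l = l) : l = 0 := by
  refine DirectSum.ext fun i => ?_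
  obtain ⟨g, hg⟩ := layerMk_surjective i (l i).toMul
  have hli : l i = Additive.ofMul (layerMk i g) := by rw [hg]; rfl
  have h1 : Additive.ofMul (layerMk i (⟨α g, map_mem_gam α g.2⟩ : gam G i)) = l i := by
    conv_rhs => rw [← hl, autLie, DirectSum.map_apply, hli]
    rfl
  rw [hli] at h1
  have h2 : ((g : G))⁻¹ * α g ∈ gam G (i + 1) := layerMk_eq.1 (Additive.ofMul.injective h1).symm
  have h3 := FixedFree.mem_of_fpf_quotient α (fun x hx => map_mem_gam α hx) hfix h2
  rw [hli, layerMk_eq_one.2 h3]
  rfl

theorem autLie_iterate_iota (α : MulAut G) (k : ℕ) {i : ℕ} {g : G} (h : g ∈ gam G i) :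
    (autLie α)^[k] (iota i g h) = iota i ((α ^ k) g) (map_mem_gam (α ^ k) h) := by
  induction k with
  | zero => exact iota_congr rfl rfl
  | succ k ih =>
    rw [Function.iterate_succ_apply', ih, autLie_iota]
    exact iota_congr rfl (by rw [pow_succ', MulAut.mul_apply])

theorem autLie_iterate_prime (α : MulAut G) (hα : α ^ p = 1) (l : LieLcs G) : (autLie α)^[p] l = l := by
  induction l using induction_iota with
  | zero => exact iterate_map_zero (autLie (G := G) α) p
  | add a b ha hb => rw [iterate_map_add, ha, hb]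
  | iota i g h =>
    rw [autLie_iterate_iota]
    exact iota_congr rfl (by rw [hα]; rfl)

omit hp in
theorem iota_mem_prodSpan : ∀ (i : ℕ) (g : G) (h : g ∈ gam G i), iota i g h ∈ prodSpan (LieLcs G) i := by
  intro i
  induction i with
  | zero => exact fun g h => AddSubgroup.mem_top _
  | succ i ih =>
    intro g h
    induction h using Subgroup.closure_induction with
    | mem x hx =>
      obtain ⟨a, ha, b, hb, rfl⟩ := hx
      have hb0 : b ∈ gam G 0 := hb
      rw [← neg_mem_iff]
      refine AddSubgroup.subset_closure ⟨iota 0 b hb0, iota i a ha, ih a ha, ?_⟩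
      rw [lie_iota]
      exact (iota_congr (by omega) (commutatorElement_inv a b).symm).trans
        (iota_inv (commutator_mem_gam ha hb0))
    | one => rw [iota_one]; exact zero_mem _
    | mul x y hx hy h1 h2 => rw [iota_mul hx hy]; exact add_mem h1 h2
    | inv x hx h1 => rw [iota_inv hx]; exact neg_mem h1

/-- A bound for graded Lie rings without zero component bounds the class of a group with a
fixed-point-free automorphism of prime order. -/
theorem lowerCentralSeries_eq_bot_of_bound [Finite G] {c : ℕ}
    (hc : ∀ {A : Type u} [LieRing A] {V : ZMod p → AddSubgroup A}, IsGrading V → ∀ d, central V c d = ⊥)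
    (α : MulAut G) (hα : α ^ p = 1) (hfix : ∀ g, α g = g → g = 1) :
    (⊤ : Subgroup G).lowerCentralSeries c = ⊥ := by
  classical
  let pb := AdjoinRoot.powerBasis' (cyclotomic.monic p ℤ)
  have hdim : 0 < pb.dim := by
    rw [AdjoinRoot.powerBasis'_dim, natDegree_cyclotomic, Nat.totient_pos]
    exact hp.out.pos
  have hle : gam G c ≤ gam G (c + 1) := by
    intro g hg
    have h4 := nsmul_prodSpan_eq_zero pb.basis (k₀ := ⟨0, hdim⟩)
      (by rw [PowerBasis.basis_eq_pow, pow_zero]) (autLie α) (rootPow p) (autLie_lie α)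
      (fun l => eq_zero_of_autLie_fix α hfix) (autLie_iterate_prime p α hα) (rootPow_zero p)
      (rootPow_add p) (fun c hc => sum_rootPow_mul p hc) hc (iota_mem_prodSpan c g hg)
    have h5 : ∀ k : ℕ, k • iota c g hg = iota c (g ^ k) (pow_mem hg k) := by
      intro k
      induction k with
      | zero => rw [zero_smul, ← iota_one c]; exact iota_congr rfl (pow_zero g).symm
      | succ k ih => rw [succ_nsmul, ih, ← iota_mul]; exact iota_congr rfl (pow_succ g k).symm
    rw [h5, iota, ← map_zero (DirectSum.of (fun i => Additive (Layer G i)) c)] at h4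
    have h6 : layerMk c (⟨g ^ p ^ (c + 1), pow_mem hg _⟩ : gam G c) = 1 :=
      Additive.ofMul.injective (DirectSum.of_injective (β := fun i => Additive (Layer G i)) c h4)
    have h7 := layerMk_eq_one.1 h6
    have hnd : ¬ p ∣ Nat.card G := by
      let φ : Subgroup.zpowers α →* MulAut G := (Subgroup.zpowers α).subtype
      refine FixedFree.not_dvd_card_of_fpf φ (IsPGroup.of_card_dvd_pow (n := 1) ?_) fun g hg =>
        hfix g (hg ⟨α, Subgroup.mem_zpowers α⟩)
      rw [pow_one, Nat.card_zpowers]
      exact orderOf_dvd_of_pow_eq_one hα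
    have hcop : (orderOf g).Coprime (p ^ (c + 1)) :=
      (((hp.out.coprime_iff_not_dvd).2 hnd).symm.coprime_dvd_left (orderOf_dvd_natCard g)).pow_right _
    obtain ⟨t, ht⟩ := exists_pow_eq_self_of_coprime hcop.symm
    rw [← ht]
    exact pow_mem h7 t
  have hnil : Group.IsNilpotent G := Complement.isNilpotent_of_fpf G α p hp.out hα hfix
  obtain ⟨k, hk⟩ := Subgroup.nilpotent_iff_lowerCentralSeries.1 hnil
  refine eq_bot_iff.2 (le_trans ?_ hk.le)
  have : ∀ j, gam G c ≤ gam G (c + j) := by
    intro j
    induction j with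
    | zero => exact le_rfl
    | succ j ih =>
      have hmono : ∀ j, gam G (c + j) ≤ gam G (c + j + 1) := by
        intro j
        induction j with
        | zero => exact hle
        | succ j ihj => exact Subgroup.commutator_mono ihj le_rfl
      exact ih.trans (hmono j)
  exact (this k).trans (gam_mono (by omega))

end CfsgLib.LieFpf
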