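import Cfsg.Agent.Lib.LieFpf.Kreknin

/-!
# From the derived length to the nilpotency class
-/

set_option autoImplicit false

namespace CfsgLib.LieFpf

open AddSubgroup

universe u

variable {A : Type u} [LieRing A] {p : ℕ}

/-- The left multiplication by a list of elements. -/
def chainLie (l : List (ZMod p × A)) (a : A) : A := l.foldr (fun y b => ⁅y.2, b⁆) a

theorem chainLie_cons (y : ZMod p × A) (l : List (ZMod p × A)) (a : A) :
    chainLie (y :: l) a = ⁅y.2, chainLie l a⁆ := rfl

theorem chainLie_append (l₁ l₂ : List (ZMod p × A)) (a : A) :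
    chainLie (l₁ ++ l₂) a = chainLie l₁ (chainLie l₂ a) := by
  rw [chainLie, List.foldr_append]; rfl

theorem chainLie_zero (l : List (ZMod p × A)) : chainLie l (0 : A) = 0 := by
  induction l with
  | nil => rfl
  | cons y l ih => rw [chainLie_cons, ih, lie_zero]

theorem chainLie_add (l : List (ZMod p × A)) (a b : A) :
    chainLie l (a + b) = chainLie l a + chainLie l b := by
  induction l with
  | nil => rfl
  | cons y l ih => rw [chainLie_cons, chainLie_cons, chainLie_cons, ih, lie_add]

theorem chainLie_neg (l : List (ZMod p × A)) (a : A) : chainLie l (-a) = -chainLie l a := by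
  induction l with
  | nil => rfl
  | cons y l ih => rw [chainLie_cons, chainLie_cons, ih, lie_neg]

/-- The degree of a list. -/
def chainDeg (l : List (ZMod p × A)) : ZMod p := (l.map Prod.fst).sum

theorem chainLie_mem {M : ZMod p → AddSubgroup A} {l : List (ZMod p × A)}
    (hl : ∀ y ∈ l, ∀ i, ∀ b ∈ M i, ⁅y.2, b⁆ ∈ M (y.1 + i)) {d : ZMod p} {a : A} (ha : a ∈ M d) :
    chainLie l a ∈ M (chainDeg l + d) := by
  induction l with
  | nil => simpa [chainLie, chainDeg] using ha
  | cons y l ih =>
    rw [chainLie_cons]
    convert hl y List.mem_cons_self _ _ (ih fun z hz => hl z (List.mem_cons_of_mem _ hz)) using 2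
    simp [chainDeg, add_assoc]

theorem zmod_three_add : ∀ x : ZMod 3, x ≠ 0 → ∀ y : ZMod 3, y ≠ 0 → x ≠ y → x + y = 0 := by decide

theorem zmod_three_twice : ∀ i e r : ZMod 3, r = e + e → i = r → i ≠ e ∨ i = 0 := by decide

variable [hp : Fact p.Prime]

/-- Adding a nonzero residue to a set of residues enlarges it. -/
theorem card_union_translate {S : Finset (ZMod p)} (hS : S.Nonempty) {e : ZMod p} (he : e ≠ 0) :
    min p (S.card + 1) ≤ (S ∪ S.image (· + e)).card := by
  classical
  by_cases hsub : S.image (· + e) ⊆ S
  · obtain ⟨s, hs⟩ := hS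
    have h1 : ∀ k : ℕ, s + k • e ∈ S := by
      intro k
      induction k with
      | zero => simpa using hs
      | succ k ih =>
        refine hsub (Finset.mem_image.2 ⟨_, ih, ?_⟩)
        rw [succ_nsmul, add_assoc]
    have h2 : S = Finset.univ := Finset.eq_univ_of_forall fun x => by
      have := h1 ((x - s) * e⁻¹).val
      rwa [nsmul_eq_mul, ZMod.natCast_zmod_val, inv_mul_cancel_right₀ he, add_sub_cancel] at this
    rw [Finset.union_eq_left.2 hsub, h2, Finset.card_univ, ZMod.card]
    exact min_le_left _ _
  · obtain ⟨x, hx, hxS⟩ := Finset.not_subset.1 hsub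
    refine (min_le_right _ _).trans (le_trans (le_of_eq ?_) (Finset.card_le_card
      (Finset.insert_subset (Finset.mem_union_right _ hx) Finset.subset_union_left)))
    rw [Finset.card_insert_of_notMem hxS]

/-- The sums of sublists of a list of nonzero residues. -/
theorem exists_subset_sum : ∀ (l : List (ZMod p × A)), (∀ y ∈ l, y.1 ≠ 0) →
    ∃ S : Finset (ZMod p), min p (l.length + 1) ≤ S.card ∧
      ∀ s ∈ S, ∃ l₁ l₂, List.Perm l (l₁ ++ l₂) ∧ chainDeg l₂ = s := by
  classical
  intro l
  induction l with
  | nil =>
    refine fun _ => ⟨{0}, min_le_right _ _, fun s hs => ⟨[], [], List.Perm.refl _, ?_⟩⟩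
    rw [Finset.mem_singleton.1 hs]
    rfl
  | cons y l ih =>
    intro h
    obtain ⟨S, hS, hS'⟩ := ih fun z hz => h z (List.mem_cons_of_mem _ hz)
    have hne : S.Nonempty := Finset.card_pos.1 (by have := hp.out.pos; omega)
    refine ⟨S ∪ S.image (· + y.1), ?_, fun s hs => ?_⟩
    · have := card_union_translate hne (h y List.mem_cons_self)
      rw [List.length_cons]
      omega
    · rcases Finset.mem_union.1 hs with hs | hs
      · obtain ⟨l₁, l₂, hp', e⟩ := hS' s hs
        exact ⟨y :: l₁, l₂, hp'.cons y, e⟩
      · obtain ⟨t, ht, rfl⟩ := Finset.mem_image.1 hs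
        obtain ⟨l₁, l₂, hp', e⟩ := hS' t ht
        refine ⟨l₁, y :: l₂, (hp'.cons y).trans List.perm_middle.symm, ?_⟩
        rw [← e, add_comm]
        simp [chainDeg]

/-- Commuting left multiplications of `p - 1` homogeneous elements annihilate. -/
theorem chainLie_mem_of_commute {M : ZMod p → AddSubgroup A} (hM0 : M 0 = ⊥) (T : AddSubgroup A)
    {D : ZMod p → AddSubgroup A} (hD0 : D 0 = ⊥)
    (hM : ∀ i j, ∀ y ∈ D i, ∀ b ∈ M j, ⁅y, b⁆ ∈ M (i + j))
    (hT : ∀ i, ∀ y ∈ D i, ∀ b ∈ T, ⁅y, b⁆ ∈ T)
    (hc : ∀ i j k, ∀ y ∈ D i, ∀ z ∈ D j, ∀ b ∈ M k, ⁅⁅y, z⁆, b⁆ ∈ T)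
    {l : List (ZMod p × A)} (hl : ∀ y ∈ l, y.2 ∈ D y.1) (hlen : p - 1 ≤ l.length)
    {d : ZMod p} {a : A} (ha : a ∈ M d) : chainLie l a ∈ T := by
  classical
  have hTl : ∀ l : List (ZMod p × A), (∀ y ∈ l, y.2 ∈ D y.1) → ∀ b ∈ T, chainLie l b ∈ T := by
    intro l hl b hb
    induction l with
    | nil => exact hb
    | cons y l ih =>
      exact hT _ _ (hl y List.mem_cons_self) _ (ih fun z hz => hl z (List.mem_cons_of_mem _ hz))
  have hperm : ∀ {l l' : List (ZMod p × A)}, List.Perm l l' → (∀ y ∈ l, y.2 ∈ D y.1) →
      ∀ {d : ZMod p} {a : A}, a ∈ M d → chainLie l a - chainLie l' a ∈ T := by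
    intro l l' hll
    induction hll with
    | nil => intro _ d a _; rw [sub_self]; exact zero_mem T
    | cons y _ ih =>
      intro hl d a ha
      rw [chainLie_cons, chainLie_cons, ← lie_sub]
      exact hT _ _ (hl y List.mem_cons_self) _ (ih (fun z hz => hl z (List.mem_cons_of_mem _ hz)) ha)
    | swap y z l =>
      intro hl d a ha
      rw [chainLie_cons, chainLie_cons, chainLie_cons, chainLie_cons]
      have hy : y.2 ∈ D y.1 := hl y (List.mem_cons_of_mem _ List.mem_cons_self)
      have hz : z.2 ∈ D z.1 := hl z List.mem_cons_self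
      have hb := chainLie_mem (M := M) (fun w hw i b hb => hM _ _ _
        (hl w (List.mem_cons_of_mem _ (List.mem_cons_of_mem _ hw))) b hb) ha
      rw [← lie_lie]
      exact hc _ _ _ _ hz _ hy _ hb
    | trans h1 _ ih1 ih2 =>
      intro hl d a ha
      rw [← sub_add_sub_cancel]
      exact add_mem (ih1 hl ha) (ih2 (fun z hz => hl z (h1.mem_iff.2 hz)) ha)
  by_cases hz : ∃ y ∈ l, y.1 = 0
  · obtain ⟨y, hy, hy0⟩ := hz
    have hy2 : y.2 = 0 := by simpa [hy0, hD0] using hl y hy
    obtain ⟨l₁, l₂, rfl⟩ := List.append_of_mem hy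
    rw [chainLie_append, chainLie_cons, hy2, zero_lie, chainLie_zero]
    exact zero_mem T
  push Not at hz
  obtain ⟨S, hS, hS'⟩ := exists_subset_sum l hz
  have huniv : S = Finset.univ := Finset.eq_univ_of_card S (le_antisymm (Finset.card_le_univ S) (by
    rw [ZMod.card]; omega))
  obtain ⟨l₁, l₂, hp', e⟩ := hS' (-d) (huniv ▸ Finset.mem_univ _)
  have hl' : ∀ y ∈ l₁ ++ l₂, y.2 ∈ D y.1 := fun y hy => hl y (hp'.mem_iff.2 hy)
  have h2 : chainLie l₂ a ∈ T := by
    have := chainLie_mem (M := M) (fun w hw i b hb => hM _ _ _ (hl' w (List.mem_append_right _ hw)) b hb) ha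
    rw [e, neg_add_cancel, hM0, AddSubgroup.mem_bot] at this
    rw [this]; exact zero_mem T
  have h3 := hTl l₁ (fun y hy => hl' y (List.mem_append_left _ hy)) _ h2
  rw [← chainLie_append] at h3
  have h4 := hperm hp' hl ha
  exact (sub_add_cancel (chainLie l a) (chainLie (l₁ ++ l₂) a)) ▸ add_mem h4 h3

/-- The images of a family under the left multiplications by `s` elements of `J`. -/
def layer (J M : ZMod p → AddSubgroup A) : ℕ → ZMod p → AddSubgroup A
  | 0, d => M d
  | s + 1, d => closure {x | ∃ i, ∃ z ∈ J i, ∃ b ∈ layer J M s (d - i), ⁅z, b⁆ = x}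

variable {V : ZMod p → AddSubgroup A}

/-- If the `m`-th derived ring of `D` maps `M` into `T`, then so do products of `(p - 1) ^ m`
elements of `D`. -/
theorem chainLie_mem_of_derived (h : IsGrading V) : ∀ (m j : ℕ) (M : ZMod p → AddSubgroup A)
    (T : AddSubgroup A), (∀ d, M d ≤ V d) →
    (∀ i k, ∀ y ∈ derived V j i, ∀ b ∈ M k, ⁅y, b⁆ ∈ M (i + k)) →
    (∀ i, ∀ y ∈ derived V j i, ∀ b ∈ T, ⁅y, b⁆ ∈ T) →
    (∀ i k, ∀ y ∈ derived V (j + m) i, ∀ b ∈ M k, ⁅y, b⁆ ∈ T) →
    ∀ (l : List (ZMod p × A)), (∀ y ∈ l, y.2 ∈ derived V j y.1) → (p - 1) ^ m ≤ l.length →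
    ∀ {d : ZMod p} {a : A}, a ∈ M d → chainLie l a ∈ T := by
  intro m
  induction m with
  | zero =>
    intro j M T _ hM hT htop l hl hlen d a ha
    cases l with
    | nil => simp at hlen
    | cons y l =>
      exact htop y.1 (chainDeg l + d) _ (hl y List.mem_cons_self) _
        (chainLie_mem (fun z hz i b hb => hM _ _ _ (hl z (List.mem_cons_of_mem _ hz)) b hb) ha)
  | succ m ih =>
    intro j M T hMV hM hT htop l hl hlen d a ha
    set J := derived V (j + 1)
    set L := layer J M
    set N := (p - 1) ^ m with hN
    have hJ : ∀ i, J i ≤ derived V j i := derived_succ_le h j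
    -- the top layer lies in `T`
    have hbot : ∀ s, ∀ d, ∀ b ∈ L s d, ∀ l' : List (ZMod p × A), (∀ y ∈ l', y.2 ∈ J y.1) →
        N ≤ l'.length + s → chainLie l' b ∈ T := by
      intro s
      induction s with
      | zero =>
        intro d b hb l' hl' hlen'
        exact ih (j + 1) M T hMV (fun i k y hy => hM i k y (hJ i hy)) (fun i y hy => hT i y (hJ i hy))
          (fun i k y hy => htop i k y (by rw [show j + (m + 1) = j + 1 + m by omega]; exact hy))
          l' hl' hlen' hb
      | succ s ihs =>
        intro d b hb l' hl' hlen'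
        induction hb using AddSubgroup.closure_induction with
        | mem x hx =>
          obtain ⟨i, z, hz, c, hc, rfl⟩ := hx
          have := ihs _ c hc (l' ++ [(i, z)]) (fun y hy => by
            rcases List.mem_append.1 hy with hy | hy
            · exact hl' y hy
            · rw [List.mem_singleton] at hy; rw [hy]; exact hz)
            (by rw [List.length_append, List.length_singleton]; omega)
          rwa [chainLie_append] at this
        | zero => rw [chainLie_zero]; exact zero_mem T
        | add _ _ _ _ hb hc => rw [chainLie_add]; exact add_mem hb hc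
        | neg _ _ hb => rw [chainLie_neg]; exact neg_mem hb
    -- the layers are invariant and lie in `M`
    have hLM : ∀ s d, L s d ≤ M d := by
      intro s
      induction s with
      | zero => exact fun d => le_rfl
      | succ s ihs =>
        intro d
        refine (closure_le _).2 ?_
        rintro x ⟨i, z, hz, c, hc, rfl⟩
        simpa using hM _ _ _ (hJ i hz) _ (ihs _ hc)
    have hLinv : ∀ s i k, ∀ y ∈ derived V j i, ∀ b ∈ L s k, ⁅y, b⁆ ∈ L s (i + k) := by
      intro s
      induction s with
      | zero => exact hM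
      | succ s ihs =>
        intro i k y hy b hb
        induction hb using AddSubgroup.closure_induction with
        | mem x hx =>
          obtain ⟨e, z, hz, c, hc, rfl⟩ := hx
          rw [leibniz_lie]
          refine add_mem (AddSubgroup.subset_closure ⟨i + e, _, lie_mem_derived j hy (hJ e hz), c, ?_, rfl⟩)
            (AddSubgroup.subset_closure ⟨e, z, hz, _, ?_, rfl⟩)
          · convert hc using 2; abel
          · convert ihs _ _ y hy c hc using 2; abel
        | zero => rw [lie_zero]; exact zero_mem _
        | add _ _ _ _ hb hc => rw [lie_add]; exact add_mem hb hc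
        | neg _ _ hb => rw [lie_neg]; exact neg_mem hb
    let U : ℕ → AddSubgroup A := fun s => T ⊔ ⨆ k, L s k
    have hU : ∀ s i, ∀ y ∈ derived V j i, ∀ b ∈ U s, ⁅y, b⁆ ∈ U s := by
      intro s i y hy b hb
      obtain ⟨t, ht, c, hc, rfl⟩ := AddSubgroup.mem_sup.1 hb
      rw [lie_add]
      refine add_mem (AddSubgroup.mem_sup_left (hT i y hy t ht)) (AddSubgroup.mem_sup_right ?_)
      clear hb
      induction hc using AddSubgroup.iSup_induction' with
      | hp k c hc => exact AddSubgroup.mem_iSup_of_mem (i + k) (hLinv s i k y hy c hc)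
      | h1 => rw [lie_zero]; exact zero_mem _
      | hadd _ _ _ _ hb hc => rw [lie_add]; exact add_mem hb hc
    -- one block of `p - 1` goes down a layer
    have hblock : ∀ s, ∀ l' : List (ZMod p × A), (∀ y ∈ l', y.2 ∈ derived V j y.1) → p - 1 ≤ l'.length →
        ∀ b ∈ U s, chainLie l' b ∈ U (s + 1) := by
      intro s l' hl' hlen' b hb
      have hTl : ∀ t ∈ T, chainLie l' t ∈ T := by
        clear hlen'
        intro t ht
        induction l' with
        | nil => exact ht
        | cons y l' ih' =>
          exact hT _ _ (hl' y List.mem_cons_self) _ (ih' fun z hz => hl' z (List.mem_cons_of_mem _ hz))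
      obtain ⟨t, ht, c, hc, rfl⟩ := AddSubgroup.mem_sup.1 hb
      rw [chainLie_add]
      refine add_mem (AddSubgroup.mem_sup_left (hTl t ht)) ?_
      clear hb
      induction hc using AddSubgroup.iSup_induction' with
      | hp k c hc =>
        refine chainLie_mem_of_commute (M := L s) ?_ _ ?_ (hLinv s) (hU (s + 1))
          (fun i i' k' y hy z hz b hb => AddSubgroup.mem_sup_right (AddSubgroup.mem_iSup_of_mem (i + i' + k')
            (AddSubgroup.subset_closure ⟨i + i', _, lie_mem_derived j hy hz, b, by rwa [add_sub_cancel_left], rfl⟩)))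
          hl' hlen' hc
        · exact eq_bot_iff.2 ((hLM s 0).trans ((hMV 0).trans h.zero_eq_bot.le))
        · exact (derived_isGrading h j).zero_eq_bot
      | h1 => rw [chainLie_zero]; exact zero_mem _
      | hadd _ _ _ _ hb hc => rw [chainLie_add]; exact add_mem hb hc
    -- all blocks
    have hall : ∀ s, ∀ l' : List (ZMod p × A), (∀ y ∈ l', y.2 ∈ derived V j y.1) →
        s * (p - 1) ≤ l'.length → chainLie l' a ∈ U s := by
      intro s
      induction s with
      | zero =>
        intro l' hl' _
        exact AddSubgroup.mem_sup_right (AddSubgroup.mem_iSup_of_mem _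
          (chainLie_mem (fun z hz i b hb => hM _ _ _ (hl' z hz) b hb) ha))
      | succ s ihs =>
        intro l' hl' hlen'
        rw [← List.take_append_drop (p - 1) l', chainLie_append]
        rw [Nat.succ_mul] at hlen'
        refine hblock s _ (fun y hy => hl' y (List.mem_of_mem_take hy)) ?_ _
          (ihs _ (fun y hy => hl' y (List.mem_of_mem_drop hy)) ?_)
        · rw [List.length_take]; omega
        · rw [List.length_drop]; omega
    have hUT : U N ≤ T := sup_le le_rfl (iSup_le fun k b hb =>
      hbot N k b hb [] (by simp) (by simp))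
    exact hUT (hall N l hl (by rw [← pow_succ]; exact hlen))

/-- The bound `ξ`. -/
def xi (p n : ℕ) : ℕ := ∑ i ∈ Finset.range n, (p - 1) ^ i

/-- A graded Lie ring of derived length `n` without zero component has class at most `ξ`. -/
theorem central_le_derived (h : IsGrading V) :
    ∀ (n : ℕ) (d : ZMod p), central V (xi p n) d ≤ ⨆ k, derived V n k := by
  intro n
  induction n with
  | zero => exact fun d => le_iSup (fun k => derived V 0 k) d
  | succ n ih =>
    have hstep : ∀ (c : ℕ) (d : ZMod p), ∀ b ∈ central V (xi p n + c) d, ∀ l : List (ZMod p × A),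
        (∀ y ∈ l, y.2 ∈ V y.1) → (p - 1) ^ n ≤ l.length + c →
        chainLie l b ∈ ⨆ k, derived V (n + 1) k := by
      intro c
      induction c with
      | zero =>
        intro d b hb l hl hlen
        have hinv : ∀ n i k, ∀ y ∈ derived V 0 i, ∀ b ∈ derived V n k, ⁅y, b⁆ ∈ derived V n (i + k) := by
          intro n
          induction n with
          | zero => exact fun i k y hy b hb => h.lie_mem hy hb
          | succ n ihn =>
            intro i k y hy b hb
            induction hb using AddSubgroup.closure_induction with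
            | mem x hx =>
              obtain ⟨e, z, hz, w, hw, rfl⟩ := hx
              rw [leibniz_lie]
              refine add_mem (AddSubgroup.subset_closure ⟨i + e, _, ihn _ _ y hy z hz, w, ?_, rfl⟩)
                (AddSubgroup.subset_closure ⟨e, z, hz, _, ?_, rfl⟩)
              · convert hw using 2; abel
              · convert ihn _ _ y hy w hw using 2; abel
            | zero => rw [lie_zero]; exact zero_mem _
            | add _ _ _ _ hb hc => rw [lie_add]; exact add_mem hb hc
            | neg _ _ hb => rw [lie_neg]; exact neg_mem hb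
        have hb' := ih d hb
        clear hb
        induction hb' using AddSubgroup.iSup_induction' with
        | h1 => rw [chainLie_zero]; exact zero_mem _
        | hadd _ _ _ _ hb hc => rw [chainLie_add]; exact add_mem hb hc
        | hp k b hb =>
        refine chainLie_mem_of_derived h n 0 (derived V n) _ (fun d => derived_le h (Nat.zero_le n) d)
          (hinv n) (fun i y hy b hb => ?_) (fun i k y hy b hb => ?_) l hl hlen hb
        · induction hb using AddSubgroup.iSup_induction' with
          | hp k c hc => exact AddSubgroup.mem_iSup_of_mem (i + k) (hinv (n + 1) i k y hy c hc)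
          | h1 => rw [lie_zero]; exact zero_mem _
          | hadd _ _ _ _ hb hc => rw [lie_add]; exact add_mem hb hc
        · rw [zero_add] at hy
          exact AddSubgroup.mem_iSup_of_mem (i + k) (lie_mem_derived n hy hb)
      | succ c ihc =>
        intro d b hb l hl hlen
        rw [← add_assoc] at hb
        induction hb using AddSubgroup.closure_induction with
        | mem x hx =>
          obtain ⟨i, z, hz, w, hw, rfl⟩ := hx
          have := ihc _ w hw (l ++ [(i, z)]) (fun y hy => by
            rcases List.mem_append.1 hy with hy | hy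
            · exact hl y hy
            · rw [List.mem_singleton] at hy; rw [hy]; exact hz)
            (by rw [List.length_append, List.length_singleton]; omega)
          rwa [chainLie_append] at this
        | zero => rw [chainLie_zero]; exact zero_mem _
        | add _ _ _ _ hb hc => rw [chainLie_add]; exact add_mem hb hc
        | neg _ _ hb => rw [chainLie_neg]; exact neg_mem hb
    intro d b hb
    have he : xi p (n + 1) = xi p n + (p - 1) ^ n := Finset.sum_range_succ _ _
    rw [he] at hb
    exact hstep _ d b hb [] (by simp) (by simp)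

/-- The class of a graded Lie ring without zero component is at most `ξ`. -/
theorem central_eq_bot (h : IsGrading V) (d : ZMod p) : central V (xi p (2 ^ (p - 1) - 1)) d = ⊥ :=
  eq_bot_iff.2 ((central_le_derived h _ d).trans (iSup_le fun k => (derived_eq_bot h k).le))

/-- For `p = 3` the class is at most two. -/
theorem central_two_eq_bot (h : IsGrading V) (h3 : p = 3) (d : ZMod p) : central V 2 d = ⊥ := by
  subst h3
  have hcases := zmod_three_add
  have hpair : ∀ (i j : ZMod 3) (a b : A), a ∈ V i → b ∈ V j → i ≠ j → ⁅a, b⁆ = 0 := by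
    intro i j a b ha hb hij
    by_cases hi : i = 0
    · rw [hi, h.zero_eq_bot, AddSubgroup.mem_bot] at ha; rw [ha, zero_lie]
    by_cases hj : j = 0
    · rw [hj, h.zero_eq_bot, AddSubgroup.mem_bot] at hb; rw [hb, lie_zero]
    have hm := h.lie_mem ha hb
    rwa [hcases i hi j hj hij, h.zero_eq_bot, AddSubgroup.mem_bot] at hm
  refine (AddSubgroup.eq_bot_iff_forall _).2 fun x hx => ?_
  induction hx using AddSubgroup.closure_induction with
  | mem x hx =>
    obtain ⟨i, a, ha, w, hw, rfl⟩ := hx
    induction hw using AddSubgroup.closure_induction with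
    | mem y hy =>
      obtain ⟨e, b, hb, c, hc, rfl⟩ := hy
      rw [leibniz_lie]
      by_cases he : e = d - i - e
      · by_cases hie : i = d - i
        · have hie' : i ≠ e ∨ i = 0 := by
            exact zmod_three_twice i e (d - i) (eq_sub_iff_add_eq.1 he).symm hie
          rcases hie' with hie' | hi0
          · rw [hpair i e a b ha hb hie', zero_lie, zero_add, hpair i _ a c ha hc (he ▸ hie'), lie_zero]
          · rw [hi0, h.zero_eq_bot, AddSubgroup.mem_bot] at ha
            simp [ha]
        · rw [← leibniz_lie]
          exact hpair i _ a _ ha (by simpa using h.lie_mem hb hc) hie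
      · rw [← leibniz_lie, hpair e _ b c hb hc he, lie_zero]
    | zero => rw [lie_zero]
    | add _ _ _ _ hb hc => rw [lie_add, hb, hc, add_zero]
    | neg _ _ hb => rw [lie_neg, hb, neg_zero]
  | zero => rfl
  | add _ _ _ _ hb hc => rw [hb, hc, add_zero]
  | neg _ _ hb => rw [hb, neg_zero]

end CfsgLib.LieFpf
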