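import Cfsg.Agent.Lib.LieFpf.Class
import Mathlib.Algebra.Lie.BaseChange
import Mathlib.LinearAlgebra.TensorProduct.Basis

/-!
# Adjoining a root of unity to a Lie ring with an automorphism of prime order
-/

set_option autoImplicit false

namespace CfsgLib.LieFpf

open TensorProduct

universe u

variable {L : Type u} [LieRing L] {R : Type} [CommRing R]

/-! The bracket of `R ⊗ L`, with the instances found at this type. -/

theorem ext_add_lie (a b c : R ⊗[ℤ] L) : ⁅a + b, c⁆ = ⁅a, c⁆ + ⁅b, c⁆ := add_lie a b c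

theorem ext_lie_add (a b c : R ⊗[ℤ] L) : ⁅a, b + c⁆ = ⁅a, b⁆ + ⁅a, c⁆ := lie_add a b c

theorem ext_zero_lie (a : R ⊗[ℤ] L) : ⁅(0 : R ⊗[ℤ] L), a⁆ = 0 := zero_lie a

theorem ext_lie_zero (a : R ⊗[ℤ] L) : ⁅a, (0 : R ⊗[ℤ] L)⁆ = 0 := lie_zero a

theorem ext_smul_lie (r : R) (a b : R ⊗[ℤ] L) : ⁅r • a, b⁆ = r • ⁅a, b⁆ := smul_lie r a b

theorem ext_lie_smul (r : R) (a b : R ⊗[ℤ] L) : ⁅a, r • b⁆ = r • ⁅a, b⁆ := lie_smul r a b

theorem ext_nsmul_lie (n : ℕ) (a b : R ⊗[ℤ] L) : ⁅n • a, b⁆ = n • ⁅a, b⁆ := nsmul_lie a b n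

theorem ext_lie_nsmul (n : ℕ) (a b : R ⊗[ℤ] L) : ⁅a, n • b⁆ = n • ⁅a, b⁆ := lie_nsmul a b n

variable (R)

/-- The extended map. -/
noncomputable def mapExt (φ : L →+ L) : R ⊗[ℤ] L →ₗ[R] R ⊗[ℤ] L :=
  φ.toIntLinearMap.baseChange R

theorem mapExt_tmul (φ : L →+ L) (a : R) (l : L) : mapExt R φ (a ⊗ₜ l) = a ⊗ₜ φ l :=
  LinearMap.baseChange_tmul ..

theorem mapExt_lie (φ : L →+ L) (hφ : ∀ x y, φ ⁅x, y⁆ = ⁅φ x, φ y⁆) (s t : R ⊗[ℤ] L) :
    mapExt R φ ⁅s, t⁆ = ⁅mapExt R φ s, mapExt R φ t⁆ := by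
  induction s using TensorProduct.induction_on with
  | zero => rw [ext_zero_lie, map_zero, ext_zero_lie]
  | add a b ha hb => rw [ext_add_lie, map_add, ha, hb, map_add, ext_add_lie]
  | tmul a l =>
    induction t using TensorProduct.induction_on with
    | zero => rw [ext_lie_zero, map_zero, ext_lie_zero]
    | add b c hb hc => rw [ext_lie_add, map_add, hb, hc, map_add, ext_lie_add]
    | tmul b m =>
      rw [LieAlgebra.ExtendScalars.bracket_tmul, mapExt_tmul, mapExt_tmul, mapExt_tmul,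
        LieAlgebra.ExtendScalars.bracket_tmul, hφ]

/-- The sums of products of `i + 1` elements. -/
def prodSpan (L : Type u) [LieRing L] : ℕ → AddSubgroup L
  | 0 => ⊤
  | i + 1 => AddSubgroup.closure {x | ∃ a : L, ∃ b ∈ prodSpan L i, ⁅a, b⁆ = x}

variable {p : ℕ} [hp : Fact p.Prime]

/-- The eigenspaces. -/
noncomputable def eigen (φ : L →+ L) (ζ : ZMod p → R) (d : ZMod p) : AddSubgroup (R ⊗[ℤ] L) where
  carrier := {t | mapExt R φ t = ζ d • t}
  zero_mem' := by simp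
  add_mem' {a b} ha hb := by
    show mapExt R φ (a + b) = _
    rw [map_add, show mapExt R φ a = _ from ha, show mapExt R φ b = _ from hb, smul_add]
  neg_mem' {a} ha := by
    show mapExt R φ (-a) = _
    rw [map_neg, show mapExt R φ a = _ from ha, smul_neg]

variable {R}

theorem eigen_isGrading {ι : Type*} (b : Module.Basis ι ℤ R) (φ : L →+ L) (ζ : ZMod p → R)
    (hφ : ∀ x y, φ ⁅x, y⁆ = ⁅φ x, φ y⁆) (hfix : ∀ l, φ l = l → l = 0) (hζ0 : ζ 0 = 1)
    (hζ : ∀ i j, ζ (i + j) = ζ i * ζ j) : IsGrading (eigen R φ ζ) where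
  lie_mem {i j a c} ha hc := by
    show mapExt R φ ⁅a, c⁆ = _
    rw [mapExt_lie R φ hφ, show mapExt R φ a = _ from ha, show mapExt R φ c = _ from hc, ext_smul_lie,
      ext_lie_smul, smul_smul, hζ]
  zero_eq_bot := by
    classical
    refine (AddSubgroup.eq_bot_iff_forall _).2 fun t ht => ?_
    have ht' : mapExt R φ t = t := by
      have h : mapExt R φ t = ζ 0 • t := ht
      rwa [hζ0, one_smul] at h
    let E := TensorProduct.equivFinsuppOfBasisLeft (M := R) (N := L) b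
    refine E.injective ?_
    rw [map_zero]
    refine Finsupp.ext fun k => hfix _ ?_
    have key : ∀ s : R ⊗[ℤ] L, E (mapExt R φ s) k = φ (E s k) := by
      intro s
      induction s using TensorProduct.induction_on with
      | zero => simp
      | add x y hx hy => simp only [map_add, Finsupp.add_apply, hx, hy]
      | tmul a l =>
        rw [mapExt_tmul, TensorProduct.equivFinsuppOfBasisLeft_apply_tmul_apply,
          TensorProduct.equivFinsuppOfBasisLeft_apply_tmul_apply, map_zsmul]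
    rw [← key, ht']

/-- The projection of an element on an eigenspace. -/
noncomputable def eigenPart (φ : L →+ L) (ζ : ZMod p → R) (d : ZMod p) (l : L) : R ⊗[ℤ] L :=
  ∑ i : ZMod p, ζ (-(d * i)) ⊗ₜ ((⇑φ)^[i.val] l)

theorem eigenPart_mem (φ : L →+ L) (ζ : ZMod p → R) (hper : ∀ l, (⇑φ)^[p] l = l)
    (hζ : ∀ i j, ζ (i + j) = ζ i * ζ j) (d : ZMod p) (l : L) :
    eigenPart φ ζ d l ∈ eigen R φ ζ d := by
  show mapExt R φ _ = _
  rw [eigenPart, map_sum, Finset.smul_sum]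
  have h1 : ∀ i : ZMod p, mapExt R φ (ζ (-(d * i)) ⊗ₜ ((⇑φ)^[i.val] l))
      = ζ d • (ζ (-(d * (i + 1))) ⊗ₜ ((⇑φ)^[(i + 1).val] l)) := by
    intro i
    have h2 : ∀ q, (⇑φ)^[p * q] l = l := by
      intro q
      induction q with
      | zero => rw [mul_zero]; rfl
      | succ q ih => rw [Nat.mul_succ, Function.iterate_add_apply, hper, ih]
    rw [mapExt_tmul, ← Function.iterate_succ_apply' (⇑φ), TensorProduct.smul_tmul', smul_eq_mul,
      ← hζ]
    congr 1
    · ring_nf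
    · rw [← Nat.mod_add_div i.val.succ p, Function.iterate_add_apply, h2, ZMod.val_add,
        ZMod.val_one'' hp.out.ne_one]
  rw [Finset.sum_congr rfl fun i _ => h1 i]
  exact Equiv.sum_comp (Equiv.addRight (1 : ZMod p))
    (fun i => ζ d • (ζ (-(d * i)) ⊗ₜ ((⇑φ)^[i.val] l)))

theorem sum_eigenPart (φ : L →+ L) (ζ : ZMod p → R) (hζ0 : ζ 0 = 1)
    (hsum : ∀ c : ZMod p, c ≠ 0 → ∑ a : ZMod p, ζ (a * c) = 0) (l : L) :
    ∑ d : ZMod p, eigenPart φ ζ d l = p • ((1 : R) ⊗ₜ[ℤ] l) := by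
  classical
  simp only [eigenPart]
  rw [Finset.sum_comm, Finset.sum_eq_single (0 : ZMod p)]
  · rw [Finset.sum_congr rfl fun d _ => show _ = (1 : R) ⊗ₜ[ℤ] l by
      rw [mul_zero, neg_zero, hζ0, ZMod.val_zero]; rfl, Finset.sum_const, Finset.card_univ, ZMod.card]
  · intro i _ hi
    rw [← TensorProduct.sum_tmul]
    have := hsum (-i) (neg_ne_zero.2 hi)
    simp only [mul_neg] at this
    rw [this, TensorProduct.zero_tmul]
  · exact fun h => absurd (Finset.mem_univ _) h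

/-- Products of `c + 1` elements are killed by a power of `p`. -/
theorem nsmul_prodSpan_eq_zero {ι : Type*} (b : Module.Basis ι ℤ R) {k₀ : ι} (hb : b k₀ = 1)
    (φ : L →+ L) (ζ : ZMod p → R) (hφ : ∀ x y, φ ⁅x, y⁆ = ⁅φ x, φ y⁆) (hfix : ∀ l, φ l = l → l = 0)
    (hper : ∀ l, (⇑φ)^[p] l = l) (hζ0 : ζ 0 = 1) (hζ : ∀ i j, ζ (i + j) = ζ i * ζ j)
    (hsum : ∀ c : ZMod p, c ≠ 0 → ∑ a : ZMod p, ζ (a * c) = 0) {c : ℕ}
    (hc : ∀ {A : Type u} [LieRing A] {V : ZMod p → AddSubgroup A}, IsGrading V → ∀ d, central V c d = ⊥)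
    {l : L} (hl : l ∈ prodSpan L c) : p ^ (c + 1) • l = 0 := by
  classical
  have hgr := eigen_isGrading b φ ζ hφ hfix hζ0 hζ
  set V := eigen R φ ζ
  have hdec : ∀ i, ∀ l ∈ prodSpan L i, p ^ (i + 1) • ((1 : R) ⊗ₜ[ℤ] l) ∈ ⨆ d, central V i d := by
    intro i
    induction i with
    | zero =>
      intro l _
      rw [zero_add, pow_one, ← sum_eigenPart φ ζ hζ0 hsum]
      exact AddSubgroup.sum_mem _ fun d _ =>
        AddSubgroup.mem_iSup_of_mem d (eigenPart_mem φ ζ hper hζ d _)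
    | succ i ih =>
      intro l hl
      induction hl using AddSubgroup.closure_induction with
      | mem x hx =>
        obtain ⟨a, w, hw, rfl⟩ := hx
        have e : ⁅p • ((1 : R) ⊗ₜ[ℤ] a), p ^ (i + 1) • ((1 : R) ⊗ₜ[ℤ] w)⁆
            = p ^ (i + 1 + 1) • ((1 : R) ⊗ₜ[ℤ] ⁅a, w⁆) := by
          rw [ext_nsmul_lie, ext_lie_nsmul, smul_smul, ← pow_succ', LieAlgebra.ExtendScalars.bracket_tmul,
            mul_one]
        rw [← e]
        have h2 := ih w hw
        generalize p ^ (i + 1) • ((1 : R) ⊗ₜ[ℤ] w) = y at h2 ⊢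
        rw [← sum_eigenPart φ ζ hζ0 hsum]
        induction h2 using AddSubgroup.iSup_induction' with
        | hp k y hy =>
          rw [show ⁅∑ d : ZMod p, eigenPart φ ζ d a, y⁆ = ∑ d : ZMod p, ⁅eigenPart φ ζ d a, y⁆ from
            sum_lie _ _ _]
          refine AddSubgroup.sum_mem _ fun d _ => AddSubgroup.mem_iSup_of_mem (d + k)
            (AddSubgroup.subset_closure ⟨d, _, eigenPart_mem φ ζ hper hζ d a, y, ?_, rfl⟩)
          rwa [add_sub_cancel_left]
        | h1 => rw [ext_lie_zero]; exact zero_mem _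
        | hadd _ _ _ _ hx hy => rw [ext_lie_add]; exact add_mem hx hy
      | zero => rw [TensorProduct.tmul_zero, smul_zero]; exact zero_mem _
      | add x y _ _ hx hy => rw [TensorProduct.tmul_add, smul_add]; exact add_mem hx hy
      | neg x _ hx => rw [TensorProduct.tmul_neg, smul_neg]; exact neg_mem hx
  have h2 : (⨆ d, central V c d) = ⊥ := iSup_eq_bot.2 fun d => hc hgr d
  have h3 := hdec c l hl
  rw [h2, AddSubgroup.mem_bot, ← TensorProduct.tmul_smul] at h3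
  have h4 := congrArg (fun s => TensorProduct.equivFinsuppOfBasisLeft (N := L) b s k₀) h3
  simp only [TensorProduct.equivFinsuppOfBasisLeft_apply_tmul_apply, map_zero, Finsupp.zero_apply] at h4
  rwa [← hb, Module.Basis.repr_self, Finsupp.single_eq_same, one_smul] at h4

end CfsgLib.LieFpf
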