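import Mathlib.Algebra.Lie.Basic
import Mathlib.Algebra.Group.Subgroup.Lattice
import Mathlib.Algebra.Field.ZMod
import Mathlib.Data.List.Perm.Basic
import Mathlib.Data.Fintype.Card

/-!
# Lie rings graded by the integers modulo a prime, with trivial zero component

Kreknin's bound on the derived length, and the bound on the nilpotency class that follows from it
by the argument of Higman and of Kostrikin.
-/

set_option autoImplicit false

namespace CfsgLib.LieFpf

open AddSubgroup

universe u

variable {A : Type u} [LieRing A] {p : ℕ}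

/-- A grading by `ZMod p` with trivial zero component; the components need not be independent. -/
structure IsGrading (V : ZMod p → AddSubgroup A) : Prop where
  lie_mem : ∀ {i j : ZMod p} {a b : A}, a ∈ V i → b ∈ V j → ⁅a, b⁆ ∈ V (i + j)
  zero_eq_bot : V 0 = ⊥

/-- The derived series of a graded Lie ring, by components. -/
def derived (V : ZMod p → AddSubgroup A) : ℕ → ZMod p → AddSubgroup A
  | 0, d => V d
  | m + 1, d => closure {x | ∃ i, ∃ a ∈ derived V m i, ∃ b ∈ derived V m (d - i), ⁅a, b⁆ = x}

/-- The lower central series of a graded Lie ring, by components. -/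
def central (V : ZMod p → AddSubgroup A) : ℕ → ZMod p → AddSubgroup A
  | 0, d => V d
  | m + 1, d => closure {x | ∃ i, ∃ a ∈ V i, ∃ b ∈ central V m (d - i), ⁅a, b⁆ = x}

/-- The elements generated by the components of degree larger than `k`. -/
inductive High (V : ZMod p → AddSubgroup A) (k : ℕ) : ZMod p → A → Prop
  | base {d : ZMod p} {a : A} : k < d.val → a ∈ V d → High V k d a
  | zero (d : ZMod p) : High V k d 0
  | add {d : ZMod p} {a b : A} : High V k d a → High V k d b → High V k d (a + b)
  | neg {d : ZMod p} {a : A} : High V k d a → High V k d (-a)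
  | lie {i j : ZMod p} {a b : A} : High V k i a → High V k j b → High V k (i + j) ⁅a, b⁆

variable {V : ZMod p → AddSubgroup A}

theorem lie_mem_derived (m : ℕ) {i j : ZMod p} {a b : A} (ha : a ∈ derived V m i)
    (hb : b ∈ derived V m j) : ⁅a, b⁆ ∈ derived V (m + 1) (i + j) :=
  AddSubgroup.subset_closure ⟨i, a, ha, b, by rwa [add_sub_cancel_left], rfl⟩

theorem derived_succ_le (h : IsGrading V) : ∀ (m : ℕ) (d : ZMod p), derived V (m + 1) d ≤ derived V m d
  | 0, d => (closure_le _).2 fun x ⟨i, a, ha, b, hb, e⟩ => by
      subst e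
      show ⁅a, b⁆ ∈ V d
      have h1 := h.lie_mem (show a ∈ V i from ha) (show b ∈ V (d - i) from hb)
      rwa [add_sub_cancel] at h1
  | m + 1, d => closure_mono fun x ⟨i, a, ha, b, hb, e⟩ =>
      ⟨i, a, derived_succ_le h m i ha, b, derived_succ_le h m _ hb, e⟩

theorem derived_le (h : IsGrading V) {m n : ℕ} (hmn : m ≤ n) (d : ZMod p) :
    derived V n d ≤ derived V m d := by
  induction hmn with
  | refl => exact le_rfl
  | step _ ih => exact (derived_succ_le h _ d).trans ih

theorem derived_isGrading (h : IsGrading V) (m : ℕ) : IsGrading (derived V m) where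
  lie_mem ha hb := derived_succ_le h m _ (lie_mem_derived m ha hb)
  zero_eq_bot := eq_bot_iff.2 ((derived_le h (Nat.zero_le m) 0).trans h.zero_eq_bot.le)

theorem derived_derived (m : ℕ) : ∀ (n : ℕ) (d : ZMod p), derived (derived V m) n d = derived V (m + n) d
  | 0, _ => rfl
  | n + 1, d => by
    show closure _ = closure _
    refine congrArg closure (Set.ext fun x => ?_)
    simp only [Set.mem_setOf_eq, derived_derived m n]
    rfl

theorem High.mem (h : IsGrading V) {k : ℕ} {d : ZMod p} {a : A} (ha : High V k d a) : a ∈ V d := by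
  induction ha with
  | base _ ha => exact ha
  | zero d => exact zero_mem _
  | add _ _ ha hb => exact add_mem ha hb
  | neg _ ha => exact neg_mem ha
  | lie _ _ ha hb => exact h.lie_mem ha hb

theorem High.sub {k : ℕ} {d : ZMod p} {a b : A} (ha : High V k d a) (hb : High V k d b) :
    High V k d (a - b) := sub_eq_add_neg a b ▸ ha.add hb.neg

variable [hp : Fact p.Prime]

/-- The key step: brackets into degree `k` with an element of level `k - 1` have level `k`. -/
theorem High.lie_of_pred (h : IsGrading V) {k : ℕ} (hk : k < p) {d : ZMod p} {a : A}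
    (ha : High V (k - 1) d a) :
    ∀ b ∈ V ((k : ZMod p) - d), High V k (k : ZMod p) ⁅a, b⁆ := by
  induction ha with
  | base hd ha =>
    intro b hb
    rename_i d a
    by_cases hdk : d.val = k
    · have hd' : d = (k : ZMod p) := by rw [← hdk, ZMod.natCast_zmod_val]
      rw [hd', sub_self, h.zero_eq_bot, AddSubgroup.mem_bot] at hb
      rw [hb, lie_zero]
      exact High.zero _
    · have hdv : k < d.val := by omega
      have hk' : k < ((k : ZMod p) - d).val := by
        have hd0 : d ≠ 0 := fun e => by rw [e, ZMod.val_zero] at hdv; omega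
        have := ZMod.val_lt d
        have hnd : (-d).val = p - d.val := by
          haveI : NeZero d := ⟨hd0⟩
          exact ZMod.val_neg_of_ne_zero d
        rw [sub_eq_add_neg, ZMod.val_add, ZMod.val_cast_of_lt hk, hnd, Nat.mod_eq_of_lt (by omega)]
        omega
      have := (High.base hdv ha).lie (High.base hk' hb)
      rwa [add_sub_cancel] at this
  | zero d => exact fun b _ => by rw [zero_lie]; exact High.zero _
  | add _ _ ha hb => exact fun c hc => by rw [add_lie]; exact (ha c hc).add (hb c hc)
  | neg _ ha => exact fun c hc => by rw [neg_lie]; exact (ha c hc).neg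
  | lie ha1 hb1 ha hb =>
    intro c hc
    rename_i i j a b
    rw [lie_lie]
    refine High.sub (ha _ ?_) (hb _ ?_)
    · convert h.lie_mem (hb1.mem h) hc using 2
      abel
    · convert h.lie_mem (ha1.mem h) hc using 2
      abel

theorem High.mono_of_derived (h : IsGrading V) {k m : ℕ}
    (hm : ∀ d, k ≤ d.val → ∀ a ∈ derived V m d, High V k d a) {d : ZMod p} {a : A}
    (ha : High (derived V m) (k - 1) d a) : High V k d a := by
  induction ha with
  | base hd ha => exact hm _ (by omega) _ ha
  | zero d => exact High.zero d
  | add _ _ ha hb => exact ha.add hb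
  | neg _ ha => exact ha.neg
  | lie _ _ ha hb => exact ha.lie hb

/-- Kreknin: the `(2 ^ k - 1)`-st derived term has level `k`. -/
theorem high_of_derived : ∀ (k : ℕ), k < p → ∀ {V : ZMod p → AddSubgroup A}, IsGrading V →
    ∀ (d : ZMod p), ∀ a ∈ derived V (2 ^ k - 1) d, High V k d a := by
  intro k
  induction k with
  | zero =>
    intro _ V h d a ha
    by_cases hd : d = 0
    · rw [hd] at ha
      have ha0 : a ∈ V 0 := ha
      rw [h.zero_eq_bot, AddSubgroup.mem_bot] at ha0
      rw [ha0]
      exact High.zero d
    · exact High.base (Nat.pos_of_ne_zero fun e => hd ((ZMod.val_eq_zero d).1 e)) ha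
  | succ k ih =>
    intro hk V h d a ha
    set m := 2 ^ k - 1 with hm
    have h1 := Nat.one_le_two_pow (n := k)
    have he : 2 ^ (k + 1) - 1 = (m + 1) + m := by rw [pow_succ]; omega
    rw [he, ← derived_derived] at ha
    refine High.mono_of_derived h (m := m + 1) ?_ (ih (by omega) (derived_isGrading h (m + 1)) d a ha)
    intro d hd a ha
    rcases Nat.lt_or_ge (k + 1) d.val with hlt | hge
    · exact High.base hlt (derived_le h (Nat.zero_le _) d ha)
    have hd' : d = ((k + 1 : ℕ) : ZMod p) := by
      rw [← le_antisymm hge hd, ZMod.natCast_zmod_val]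
    induction ha using AddSubgroup.closure_induction with
    | mem x hx =>
      obtain ⟨i, u, hu, v, hv, rfl⟩ := hx
      rw [hd'] at hv ⊢
      exact High.lie_of_pred h hk (ih (by omega) h i u hu) v (derived_le h (Nat.zero_le _) _ hv)
    | zero => exact High.zero d
    | add _ _ _ _ ha hb => exact ha.add hb
    | neg _ _ ha => exact ha.neg

/-- Kreknin: the derived length is at most `2 ^ (p - 1) - 1`. -/
theorem derived_eq_bot (h : IsGrading V) (d : ZMod p) : derived V (2 ^ (p - 1) - 1) d = ⊥ := by
  refine (AddSubgroup.eq_bot_iff_forall _).2 fun a ha => ?_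
  have h1 := high_of_derived (p - 1) (Nat.sub_lt hp.out.pos one_pos) h d a ha
  clear ha
  induction h1 with
  | base hd hmem => rename_i d a; have := ZMod.val_lt d; omega
  | zero d => rfl
  | add _ _ ha hb => rw [ha, hb, add_zero]
  | neg _ ha => rw [ha, neg_zero]
  | lie _ _ ha hb => rw [ha, zero_lie]

end CfsgLib.LieFpf
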